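import Cfsg.Agent.H238.ExcCore
import Cfsg.Agent.H238.Quad
import Cfsg.Agent.BpExc.Asm
import Cfsg.Agent.BpExc.RowsN

/-!
# Groups inside the fixed points of a Frobenius endomorphism (helper238)

`Amb r n K₀` : `K₀` embeds into `D.group k`, `k` the algebraic closure of `ZMod r`, as a normal subgroup of the fixed points of
a frame automorphism `σ` with `IsFrob r n σ`, `n > 0`, which together with the torus generates the fixed points.

* `Amb.exists_r` : if `z ∈ K₀` is of prime order `p ≠ 2, r` with `Quad p L z`, then an `r`-element `≠ 1` commutes with `z`;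
* `Amb.exists_perfect` : if moreover `4 ≤ r ^ n` then a non-trivial perfect subgroup centralises `z`.
-/

set_option autoImplicit false
set_option linter.unusedSectionVars false

namespace Cfsg.Agent.H238

open CoxeterSystem Cfsg Cfsg.Lie Cfsg.Lie.ChevalleyDatum
open Cfsg.Agent.ChevalleyStructure Cfsg.Agent.ChevalleyStructure.Elts Cfsg.Agent.ChevalleyStructure.CoxeterGeom
  Cfsg.Agent.ChevalleyStructure.CoxeterGeomTypes Cfsg.Agent.ChevalleyStructure.NPerm
open Cfsg.Agent.Tits.Roots Cfsg.Agent.Tits.Core Cfsg.Agent.Nodes Cfsg.Agent.Nodes.Reps Cfsg.Agent.Nodes.BNOf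
  Cfsg.Agent.Nodes.RGDChev Cfsg.Agent.Nodes.Bruhat Cfsg.Agent.Nodes.NormalForm Cfsg.Agent.Nodes.Coroot
open Cfsg.Agent.KFacts.RgdField Cfsg.Agent.KFacts.RgdChevCoord
open Cfsg.Agent.BpExc Cfsg.Agent.BpExc.TorCent Cfsg.Agent.BpExc.TorChev Cfsg.Agent.BpExc.Tow
  Cfsg.Agent.BpExc.TowChev Cfsg.Agent.BpExc.Fr Cfsg.Agent.BpExc.Pair Cfsg.Agent.BpExc.LangFr Cfsg.Agent.GpExc.Field
  Cfsg.Agent.BpExc.NInst Cfsg.Agent.BpExc.Asm
open scoped commutatorElement

universe u v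

/-- `K₀` is a large normal subgroup of the fixed points of a Frobenius automorphism of exponent `r ^ n`. -/
def Amb (r n : ℕ) [Fact r.Prime] (K₀ : Type v) [Group K₀] : Prop :=
  ∃ (D : ChevalleyDatum) (l : ℕ) (M : CoxeterMatrix (Fin l)) (hp : IsType D l M)
    (σ : MulAut ↥(D.group (AlgebraicClosure (ZMod r)))) (g : (Fin l → ℤ) ≃+ (Fin l → ℤ))
    (ι : K₀ →* ↥(D.group (AlgebraicClosure (ZMod r)))),
    0 < n ∧ IsFrob r n σ ∧
    Fr M.toCoxeterSystem hp.isCartan (TT D (AlgebraicClosure (ZMod r))) (XX D l (AlgebraicClosure (ZMod r))) σ g ∧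
    Finite ↥(fixedSubgroup σ) ∧ Function.Injective ι ∧ (∀ a, σ (ι a) = ι a) ∧
    (∀ y, σ y = y → ∀ a, ∃ b, y * ι a * y⁻¹ = ι b) ∧
    ∀ y, σ y = y → ∃ a, ∃ t ∈ TT D (AlgebraicClosure (ZMod r)), y = ι a * t

section Pair

variable {D : ChevalleyDatum} {l : ℕ} {M : CoxeterMatrix (Fin l)} (hp : IsType D l M) {k : Type u} [Field k]
  {W : Type v} [Group W] (cs : CoxeterSystem M W) {r : ℕ} [Fact r.Prime] [CharP k r]

include hp cs in
/-- **The pair reduction in `D.group k`**, with the conjugating element. -/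
theorem exists_pair_conj [IsAlgClosed k] (hk : LocFin k)
    {σ : MulAut ↥(D.group k)} {g : (Fin l → ℤ) ≃+ (Fin l → ℤ)} {e : ℕ} (he : 0 < e) (hσ : IsFrob r e σ)
    (Fσ : Fr cs hp.isCartan (TT D k) (XX D l k) σ g) {x : ↥(D.group k)}
    (hσx : σ x = x) {z : ↥(D.group k)} (hz : z * x * z⁻¹ ∈ TT D k) :
    ∃ (t : ↥(D.group k)) (c k' : ↥(D.group k)) (g' : (Fin l → ℤ) ≃+ (Fin l → ℤ)),
      t ∈ TT D k ∧ c⁻¹ * x * c = t ∧ c⁻¹ * σ c = k' ∧ IsFrob r e (MulAut.conj k' * σ) ∧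
      Fr cs hp.isCartan (TT D k) (XX D l k) (MulAut.conj k' * σ) g' ∧ (MulAut.conj k' * σ) t = t ∧
      (∀ a ∈ Sx cs hp.isCartan (ch hp) t, 0 ≤ a → 0 ≤ g' a) := by
  have := finite_W hp cs
  have hTL := TL_eq hp hk
  have hXL := XL_eq hp hk
  have C := coordsL hp cs hk r
  have hA := chAddL hp cs hk r
  have hG := GG_eq_top hp cs hk
  have Fσ' : Fr cs hp.isCartan (TL (Tj hp (k := k))) (XL (Xj hp (k := k))) σ g := by rw [hTL, hXL]; exact Fσ
  set t : ↥(D.group k) := z * x * z⁻¹ with ht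
  have ht' : t ∈ TL (Tj hp (k := k)) := by rw [hTL]; exact hz
  have C' : Coords cs hp.isCartan (TL (Tj hp (k := k))) (nc hp k) (XL (Xj hp (k := k))) (xc hp) (ch hp) := by
    rw [hTL, hXL]; exact C
  have hA' : ChAdd cs hp.isCartan (TL (Tj hp (k := k))) (ch (K := k) hp) := by rw [hTL]; exact hA
  obtain ⟨z', k', g', h1, h2, h3, h4, h5⟩ := pair_reduction (tow hp cs hk r) C' hA' hG Fσ' hσx (z := z⁻¹) (t := t)
    (by rw [ht, inv_inv]) ht' (fun k' g' F' htt m hm => by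
      have h1 := fun a => F'.mem_Sx C' ht' htt a
      rw [hTL, hXL] at F'
      rw [hXL] at hm ⊢
      exact lang_fr hp cs he (hσ.conj_mul k') F' (S := Sx cs hp.isCartan (ch hp) t) (fun a ha => ha.1)
        (fun a ha => (h1 a).2 ha) hm)
  rw [hTL, hXL] at h3
  exact ⟨t, z', k', g', hz, h1, h2, hσ.conj_mul k', h3, h4, h5⟩

end Pair

theorem grp_one {Y : Type*} [Group Y] {a s b s' b1 : Y} (h : s * b * s⁻¹ = b1) :
    (a * s) * (b * s') = (a * b1) * (s * s') := by rw [← h]; group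

theorem grp_two {Y : Type*} [Group Y] {y₁ y₂ u v w : Y} (h1 : y₁ * y₂ = u * w) (h2 : y₂ * y₁ = v * w) :
    ⁅y₁, y₂⁆ = u * v⁻¹ := by
  have h3 : ⁅y₁, y₂⁆ = (y₁ * y₂) * (y₂ * y₁)⁻¹ := by rw [commutatorElement_def]; group
  rw [h3, h1, h2]; group

theorem zpow_gcd {Y : Type*} [Group Y] {N : Subgroup Y} {y : Y} {m r : ℕ} (hm : m.Coprime r) (h4 : y ^ m ∈ N)
    (h5 : y ^ r = 1) : y ∈ N := by
  have h7 : (m.gcd r : ℤ) = m * m.gcdA r + r * m.gcdB r := Nat.gcd_eq_gcd_ab m r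
  rw [hm.gcd_eq_one] at h7
  have h8 : y = (y ^ m) ^ (m.gcdA r) := by
    calc y = y ^ (((1 : ℕ) : ℤ)) := by rw [Nat.cast_one, zpow_one]
      _ = y ^ ((m : ℤ) * m.gcdA r) * y ^ ((r : ℤ) * m.gcdB r) := by
        rw [h7, zpow_add]
      _ = _ := by rw [zpow_mul, zpow_mul, zpow_natCast, zpow_natCast, h5, one_zpow, mul_one]
  rw [h8]
  exact zpow_mem h4 _

section Main

variable {r n : ℕ} [Fact r.Prime] {K₀ : Type v} [Group K₀] [Finite K₀]

/-- The centraliser of `z` contains an `r`-element, and a perfect group if `4 ≤ r ^ n`. -/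
theorem Amb.main (hA : Amb r n K₀) {p : ℕ} (hpp : p.Prime) (hp2 : p ≠ 2) (hpr : p ≠ r) {L : Subgroup K₀} {z : K₀}
    (hz : orderOf z = p) (hq : Quad p L z) :
    (∃ u : K₀, u * z = z * u ∧ u ≠ 1 ∧ u ^ r = 1) ∧
    (4 ≤ r ^ n → ∃ H : Subgroup K₀, H ≤ Subgroup.centralizer {z} ∧ ⁅H, H⁆ = H ∧ H ≠ ⊥) := by
  obtain ⟨D, l, M, hp, σ, g, ι, hn, hσ, F, hfin, hι, hfix, hnorm, hsplit⟩ := hA
  have hk : LocFin (AlgebraicClosure (ZMod r)) := locFin_of_isAlgebraic r _
  have hzp : ι z ^ p = 1 := by rw [← map_pow, ← hz, pow_orderOf_eq_one, map_one]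
  obtain ⟨z0, hz0⟩ := TorAll.exists_toral' hp r hpp hpr hzp
  obtain ⟨t, c, k', g', ht, hct, hck, hF1, hF2, hF3, hF4⟩ := exists_pair_conj hp M.toCoxeterSystem hk hn hσ F (hfix z)
    (z := z0⁻¹) (by rwa [inv_inv])
  obtain ⟨x, -, y, -, h, -, hxp, hyp, hxy, hxz, hyz, hhz, hhx, hhy⟩ := hq
  -- conjugation by `c`
  let f : K₀ →* ↥(D.group (AlgebraicClosure (ZMod r))) := (MulAut.conj c⁻¹).toMonoidHom.comp ι
  have hfa : ∀ a, f a = c⁻¹ * ι a * c := by
    intro a
    show c⁻¹ * ι a * c⁻¹⁻¹ = _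
    rw [inv_inv]
  have hfi : Function.Injective f := (MulAut.conj c⁻¹).injective.comp hι
  have hfz : f z = t := by rw [hfa, hct]
  have hcom : ∀ a, Commute a z → f a * t = t * f a := by
    intro a ha
    rw [← hfz, ← map_mul, ha.eq, map_mul]
  have ht1 : t ≠ 1 := by
    rw [← hfz]
    intro h1
    have h2 : z = 1 := hfi (by rw [h1, map_one])
    rw [h2, orderOf_one] at hz
    exact hpp.ne_one hz.symm
  have htp : t ^ p = 1 := by
    rw [← hfz, ← map_pow, ← hz, pow_orderOf_eq_one, map_one]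
  have hne := ExcCore.core_nonempty hp M.toCoxeterSystem hk (r := r) hpp hp2 ht ht1 htp (x := f x) (y := f y) (h := f h)
    (hcom x hxz) (hcom y hyz) (hcom h hhz) (by rw [← map_commutatorElement, ← hxy, hfz])
    (by rw [← map_pow, hxp, map_one]) (by rw [← map_pow, hyp, map_one]) (f.isOfFinOrder (isOfFinOrder_of_finite h))
    (by rw [← map_mul, ← map_inv, ← map_mul, hhx, map_inv]) (by rw [← map_mul, ← map_inv, ← map_mul, hhy, map_inv])
  -- back to `K₀`
  have hback : ∀ u ∈ fixC (MulAut.conj k' * σ) t, σ (c * u * c⁻¹) = c * u * c⁻¹ ∧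
      (c * u * c⁻¹) * ι z = ι z * (c * u * c⁻¹) := by
    intro u hu
    exact mem_fixC.1 ((fixEquiv hct hck ⟨u, hu⟩).2)
  constructor
  · obtain ⟨u, hu, hu1, hur⟩ := ExcCore.core_one hp M.toCoxeterSystem hk hn ht hF1 hF2 hF3 hF4 hne
    obtain ⟨h1, h2⟩ := hback u hu
    obtain ⟨a, s, hs, e⟩ := hsplit _ h1
    have hσs : σ s = s := by
      have h3 := h1
      rw [e, map_mul, hfix] at h3
      exact mul_left_cancel h3
    have hfs : IsOfFinOrder s := by
      have h3 : IsOfFinOrder (⟨s, hσs⟩ : ↥(fixedSubgroup σ)) := isOfFinOrder_of_finite _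
      exact (fixedSubgroup σ).subtype.isOfFinOrder h3
    obtain ⟨m, hm, hm1⟩ := RowsN.exists_coprime hp.inList hs hfs
    have h4 : (c * u * c⁻¹) ^ m ∈ ι.range := by
      rw [e]
      refine RowsN.pow_mem_of_split (N := ι.range) ⟨a, rfl⟩ ?_ hm1
      rintro _ ⟨b, rfl⟩
      obtain ⟨b', hb'⟩ := hnorm s hσs b
      exact ⟨b', hb'.symm⟩
    have h5 : (c * u * c⁻¹) ^ r = 1 := by
      rw [conj_pow, hur, mul_one, mul_inv_cancel]
    have h6 : (c * u * c⁻¹) ∈ ι.range := zpow_gcd hm h4 h5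
    obtain ⟨b, hb⟩ := h6
    refine ⟨b, hι ?_, ?_, hι ?_⟩
    · rw [map_mul, map_mul, hb, h2]
    · rintro rfl
      apply hu1
      rw [map_one] at hb
      exact conj_eq_one_iff.1 hb.symm
    · rw [map_pow, hb, h5, map_one]
  · intro h4
    obtain ⟨H, hH1, hH2, hH3⟩ := ExcCore.core_perfect hp M.toCoxeterSystem hk h4 ht hF1 hF2 hF3 hF4 hne
    let H' : Subgroup ↥(D.group (AlgebraicClosure (ZMod r))) := H.map (MulAut.conj c).toMonoidHom
    have hH' : ∀ y ∈ H', σ y = y ∧ y * ι z = ι z * y := by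
      rintro _ ⟨u, hu, rfl⟩
      exact hback u (hH1 hu)
    have hcomm : ∀ y₁ y₂, σ y₁ = y₁ → σ y₂ = y₂ → ⁅y₁, y₂⁆ ∈ ι.range := by
      intro y₁ y₂ h1 h2
      obtain ⟨a, s, hs, e1⟩ := hsplit _ h1
      obtain ⟨b, s', hs', e2⟩ := hsplit _ h2
      have hσs : σ s = s := by
        have h3 := h1
        rw [e1, map_mul, hfix] at h3
        exact mul_left_cancel h3
      have hσs' : σ s' = s' := by
        have h3 := h2
        rw [e2, map_mul, hfix] at h3
        exact mul_left_cancel h3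
      have hss : s * s' = s' * s := TT_comm hp s hs s' hs'
      obtain ⟨b1, hb1⟩ := hnorm s hσs b
      obtain ⟨a1, ha1⟩ := hnorm s' hσs' a
      have e3 : y₁ * y₂ = ι (a * b1) * (s * s') := by
        rw [e1, e2, map_mul]
        exact grp_one hb1
      have e4 : y₂ * y₁ = ι (b * a1) * (s * s') := by
        rw [e1, e2, map_mul, hss]
        exact grp_one ha1
      refine ⟨(a * b1) * (b * a1)⁻¹, ?_⟩
      rw [grp_two e3 e4, map_mul, map_inv]
    have hH'2 : ⁅H', H'⁆ = H' := by rw [← Subgroup.map_commutator, hH2]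
    have hle : H' ≤ ι.range := by
      rw [← hH'2, Subgroup.commutator_le]
      exact fun y₁ h1 y₂ h2 => hcomm y₁ y₂ (hH' _ h1).1 (hH' _ h2).1
    have hmc : (H'.comap ι).map ι = H' := Subgroup.map_comap_eq_self hle
    refine ⟨H'.comap ι, ?_, ?_, ?_⟩
    · intro a ha
      rw [Subgroup.mem_centralizer_singleton_iff]
      apply hι
      rw [map_mul, map_mul]
      exact (hH' _ ha).2
    · apply Subgroup.map_injective hι
      rw [Subgroup.map_commutator, hmc, hH'2]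
    · intro h0
      rw [h0, Subgroup.map_bot] at hmc
      apply hH3
      rw [eq_bot_iff]
      intro u hu
      have h5 : c * u * c⁻¹ ∈ H' := ⟨u, hu, rfl⟩
      rw [← hmc, Subgroup.mem_bot] at h5
      rw [Subgroup.mem_bot]
      exact conj_eq_one_iff.1 h5

end Main

end Cfsg.Agent.H238
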