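import Cfsg.Agent.H239.CharPLocal
import Cfsg.Agent.BpTwo.Two
import Cfsg.Prelude.Def_AlmostLie
import Cfsg.Agent.CpQuot.Congr

/-!
# Subgroups of Lie type in characteristic `p` with a normaliser of index prime to `p` (helper238)

* `Emb p L z` : `L ≤ K` is simple of Lie type in characteristic `p` and Lie rank at least two, `z ∈ L` has order `p`,
  `C_K(z)` has characteristic `p`, some Sylow `p`-subgroup of `K` normalises `L` and centralises `z`, and `C_K(L)` is a
  `p'`-group.
* `Emb.card_dvd` : the `p`-part of `|K|` divides `|Aut L|`.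
* `Loc p K` : `C_K(x)` has characteristic `p` for every `x ∈ K` of order `p`.
* `perfect_eq_bot` : `K` with a split (B,N)-pair of characteristic `r ≠ p`, `x ∈ K` of order `p`, `C_K(x)` of
  characteristic `p`: a perfect subgroup of `C_K(x)` generated by `r`-elements is trivial.
* `isSolvable_of_two` : if `r = 2` then `C_K(x)` is solvable.
-/

set_option autoImplicit false
set_option linter.unusedSectionVars false

namespace Cfsg.Agent.H238

open scoped Pointwise commutatorElement
open Subgroup Cfsg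
open Cfsg.Agent.H239.CharPLocal (CP)

universe u v

/-- `C_K(x)` has characteristic `p` for every element of order `p`. -/
def Loc (p : ℕ) (K : Type u) [Group K] : Prop :=
  ∀ x : K, orderOf x = p → CP p ↥(centralizer ({x} : Set K))

/-- The `K`-level configuration. -/
structure Emb (p : ℕ) {K : Type u} [Group K] (L : Subgroup K) (z : K) : Prop where
  simple : IsSimpleGroup ↥L
  rank : IsLieRankAtLeastTwoChar p ↥L
  mem : z ∈ L
  ord : orderOf z = p
  cp : CP p ↥(centralizer ({z} : Set K))
  syl : ∃ P : Sylow p K, (P : Subgroup K) ≤ normalizer (L : Set K) ∧ (P : Subgroup K) ≤ centralizer ({z} : Set K)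
  cent : ¬ p ∣ Nat.card ↥(centralizer (L : Set K))

/-- transport along an isomorphism -/
theorem Loc.congr {p : ℕ} {K : Type u} {K' : Type v} [Group K] [Group K'] (e : K ≃* K') (h : Loc p K) :
    Loc p K' := by
  intro x hx
  have h1 : orderOf (e.symm x) = p := by
    rw [← hx]
    exact orderOf_injective e.symm.toMonoidHom e.symm.injective x
  have h2 := h _ h1
  have e1 : (centralizer ({e.symm x} : Set K)).map e.toMonoidHom = centralizer ({x} : Set K') := by
    ext y
    rw [Subgroup.mem_map]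
    constructor
    · rintro ⟨w, hw, rfl⟩
      rw [mem_centralizer_singleton_iff] at hw ⊢
      have := congrArg e hw
      simpa using this
    · intro hy
      refine ⟨e.symm y, ?_, by simp⟩
      rw [mem_centralizer_singleton_iff] at hy ⊢
      rw [← map_mul, hy, map_mul]
  rw [← e1]
  exact h2.of_equiv ((centralizer ({e.symm x} : Set K)).equivMapOfInjective _ e.injective)

theorem nonempty_congr {X : Type u} {Y : Type v} [Group X] [Group Y] (e : X ≃* Y) {Z : Type*} [Group Z] :
    Nonempty (X ≃* Z) → Nonempty (Y ≃* Z) := fun ⟨f⟩ => ⟨e.symm.trans f⟩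

theorem isLieRankOneChar_congr {p : ℕ} {X : Type u} {Y : Type v} [Group X] [Group Y] (e : X ≃* Y)
    (h : IsLieRankOneChar p X) : IsLieRankOneChar p Y := by
  rcases h with ⟨F, i1, i2, i3, h4, h⟩ | ⟨F, i1, i2, i3, q, h4, h5, h⟩ | ⟨h1, h⟩ | ⟨h1, h | ⟨F, i1, i2, h4, h⟩⟩
  · exact Or.inl ⟨F, i1, i2, i3, h4, nonempty_congr e h⟩
  · exact Or.inr (Or.inl ⟨F, i1, i2, i3, q, h4, h5, nonempty_congr e h⟩)
  · refine Or.inr (Or.inr (Or.inl ⟨h1, ?_⟩))
    obtain ⟨F, i1, i2, m, h4, h5, h⟩ := h
    exact ⟨F, i1, i2, m, h4, h5, nonempty_congr e h⟩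
  · refine Or.inr (Or.inr (Or.inr ⟨h1, Or.inl ?_⟩))
    obtain ⟨F, i1, i2, m, h4, h5, h⟩ := h
    exact ⟨F, i1, i2, m, h4, h5, nonempty_congr e h⟩
  · exact Or.inr (Or.inr (Or.inr ⟨h1, Or.inr ⟨F, i1, i2, h4, nonempty_congr e h⟩⟩))

theorem isLieRankAtLeastTwoChar_congr {p : ℕ} {X : Type u} {Y : Type v} [Group X] [Group Y] (e : X ≃* Y)
    (h : IsLieRankAtLeastTwoChar p X) : IsLieRankAtLeastTwoChar p Y :=
  ⟨(CpQuot.Congr.isChevSimple_iff e p).1 h.1, fun h2 => h.2 (isLieRankOneChar_congr e.symm h2)⟩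

/-- transport of the configuration along an isomorphism -/
theorem Emb.congr {p : ℕ} [Fact p.Prime] {K : Type u} {K' : Type v} [Group K] [Finite K] [Group K'] (e : K ≃* K') {L : Subgroup K}
    {z : K}
    (h : Emb p L z) :
    Emb p (L.map e.toMonoidHom) (e z) := by
  have eL : ↥L ≃* ↥(L.map e.toMonoidHom) := L.equivMapOfInjective _ e.injective
  have ec : (centralizer ({z} : Set K)).map e.toMonoidHom = centralizer ({e z} : Set K') := by
    ext y
    rw [Subgroup.mem_map]
    constructor
    · rintro ⟨w, hw, rfl⟩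
      rw [mem_centralizer_singleton_iff] at hw ⊢
      have := congrArg e hw
      simpa using this
    · intro hy
      refine ⟨e.symm y, ?_, by simp⟩
      rw [mem_centralizer_singleton_iff] at hy ⊢
      apply e.injective
      simpa using hy
  have ecL : (centralizer (L : Set K)).map e.toMonoidHom = centralizer ((L.map e.toMonoidHom : Subgroup K') : Set K') := by
    ext y
    rw [Subgroup.mem_map, mem_centralizer_iff]
    constructor
    · rintro ⟨w, hw, rfl⟩ _ ⟨l, hl, rfl⟩
      rw [mem_centralizer_iff] at hw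
      have := congrArg e (hw l hl)
      simpa using this
    · intro hy
      refine ⟨e.symm y, ?_, by simp⟩
      rw [mem_centralizer_iff]
      intro l hl
      apply e.injective
      simpa using hy (e l) ⟨l, hl, rfl⟩
  refine ⟨?_, isLieRankAtLeastTwoChar_congr eL h.rank, ⟨z, h.mem, rfl⟩, ?_, ?_, ?_, ?_⟩
  · have := h.simple
    exact (eL.symm.isSimpleGroup_congr).mpr this
  · rw [← h.ord]
    exact orderOf_injective e.toMonoidHom e.injective z
  · rw [← ec]
    exact h.cp.of_equiv ((centralizer ({z} : Set K)).equivMapOfInjective _ e.injective)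
  · obtain ⟨P, h1, h2⟩ := h.syl
    have hs : Function.Surjective e.toMonoidHom := e.surjective
    refine ⟨P.mapSurjective hs, ?_, ?_⟩
    · rw [Sylow.coe_mapSurjective]
      rintro _ ⟨x, hx, rfl⟩
      have h3 := h1 hx
      rw [mem_normalizer_iff] at h3 ⊢
      intro y
      constructor
      · rintro ⟨w, hw, rfl⟩
        exact ⟨x * w * x⁻¹, (h3 w).1 hw, by simp⟩
      · rintro ⟨w, hw, hwy⟩
        refine ⟨x⁻¹ * w * x, ?_, ?_⟩
        · rw [SetLike.mem_coe, h3]
          have : x * (x⁻¹ * w * x) * x⁻¹ = w := by group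
          rw [this]
          exact hw
        · have hwy' : e w = e x * y * (e x)⁻¹ := hwy
          change e (x⁻¹ * w * x) = y
          rw [map_mul, map_mul, map_inv, hwy']
          group
    · rw [Sylow.coe_mapSurjective, ← ec]
      exact Subgroup.map_mono h2
  · rw [← ecL, Nat.card_congr ((centralizer (L : Set K)).equivMapOfInjective _ e.injective).toEquiv.symm]
    exact h.cent

/-- A Sylow `p`-subgroup of `K` acts faithfully on `L`. -/
theorem Emb.card_dvd {p : ℕ} [Fact p.Prime] {K : Type u} [Group K] [Finite K] {L : Subgroup K} {z : K}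
    (h : Emb p L z) : p ^ (Nat.card K).factorization p ∣ Nat.card (MulAut ↥L) := by
  classical
  obtain ⟨P, h1, -⟩ := h.syl
  have hN : ∀ x : ↥(P : Subgroup K), (x : K) ∈ normalizer (L : Set K) := fun x => h1 x.2
  let f : ↥(P : Subgroup K) →* MulAut ↥L := (L.normalizerMonoidHom).comp (Subgroup.inclusion h1)
  have hf : Function.Injective f := by
    rw [← MonoidHom.ker_eq_bot_iff, eq_bot_iff]
    intro x hx
    rw [MonoidHom.mem_ker] at hx
    have hxc : (x : K) ∈ centralizer (L : Set K) := by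
      rw [mem_centralizer_iff]
      intro l hl
      have h2 := congrArg (fun φ : MulAut ↥L => ((φ ⟨l, hl⟩ : ↥L) : K)) hx
      have h3 : (x : K) * l * (x : K)⁻¹ = l := h2
      have h5 : (x : K) * l = l * (x : K) := by
        conv_rhs => rw [← h3]
        group
      exact h5.symm
    have h4 : orderOf (⟨(x : K), hxc⟩ : ↥(centralizer (L : Set K))) ∣ Nat.card ↥(centralizer (L : Set K)) :=
      orderOf_dvd_natCard _
    rw [Subgroup.orderOf_mk] at h4
    obtain ⟨k, hk⟩ := (IsPGroup.iff_orderOf.mp P.isPGroup') x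
    rw [← Subgroup.orderOf_coe] at hk
    rw [Subgroup.mem_bot]
    rcases Nat.eq_zero_or_pos k with h0 | h0
    · rw [h0, pow_zero, orderOf_eq_one_iff] at hk
      exact Subtype.ext hk
    · exact absurd ((dvd_pow_self p h0.ne').trans (hk ▸ h4)) h.cent
  rw [← P.card_eq_multiplicity]
  exact card_dvd_of_injective f hf

theorem eq_bot_of_perfect_of_isSolvable {G : Type*} [Group G] {M : Subgroup G} (hM : ⁅M, M⁆ = M)
    (hs : Group.IsSolvable M) : M = ⊥ := by
  have h1 : ⁅(⊤ : Subgroup M), (⊤ : Subgroup M)⁆ = ⊤ := by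
    apply Subgroup.map_injective M.subtype_injective
    rw [Subgroup.map_commutator, ← MonoidHom.range_eq_map, Subgroup.range_subtype, hM]
  have h2 : ∀ n, derivedSeries M n = ⊤ := by
    intro n
    induction n with
    | zero => rfl
    | succ n ih => rw [derivedSeries_succ, ih, h1]
  obtain ⟨n, hn⟩ := hs
  rw [h2 n] at hn
  have h3 := congrArg (Subgroup.map M.subtype) hn
  rwa [← MonoidHom.range_eq_map, Subgroup.range_subtype, Subgroup.map_bot] at h3

section Lie

variable {K : Type u} [Group K] [Finite K] {p r : ℕ} [hp : Fact p.Prime] [hr : Fact r.Prime]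

omit [Finite K] in
theorem fixed_conj (x : K) : fixedSubgroup (MulAut.conj x) = centralizer ({x} : Set K) := by
  ext y
  rw [mem_centralizer_singleton_iff]
  change MulAut.conj x y = y ↔ _
  rw [MulAut.conj_apply]
  constructor
  · intro h
    calc y * x = (x * y * x⁻¹) * x := by rw [h]
      _ = x * y := by group
  · intro h
    rw [← h]
    group

/-- the gate system of `C_K(x)` and the consequence for the normal subgroup `O_p(C_K(x))` -/
theorem gates_aux (hpr : p ≠ r) (hK : FixBN.HasSplit r K) {x : K} (hx : orderOf x = p) :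
    ∃ (Pa : Set (Set (Sylow r ↥(centralizer ({x} : Set K)))))
      (d : Sylow r ↥(centralizer ({x} : Set K)) → Sylow r ↥(centralizer ({x} : Set K)) → ℕ),
      FixBN.Gates.GSys Pa d ∧ BpGate.Inter Pa ∧
        ∃ a b : Sylow r ↥(centralizer ({x} : Set K)), (a : Subgroup ↥(centralizer ({x} : Set K))) ⊓ b = ⊥ := by
  obtain ⟨P, U, -, h⟩ := hK
  have h1 := BpTwo.exists_gates hpr h (MulAut.conj x) (by
    rw [← map_pow, ← hx, pow_orderOf_eq_one, map_one])
  rwa [fixed_conj] at h1

theorem mem_Hp {H : Type*} [Group H] [Finite H] {y : H} {k : ℕ} (hy : y ^ r ^ k = 1) : y ∈ BpGate.Hp r H := by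
  have h2 : IsPGroup r (Subgroup.zpowers y) := by
    rintro ⟨w, j, rfl⟩
    refine ⟨k, Subtype.ext ?_⟩
    change (y ^ j) ^ r ^ k = 1
    rw [← zpow_natCast, ← zpow_mul, mul_comm, zpow_mul, zpow_natCast, hy, one_zpow]
  obtain ⟨Q, hQ⟩ := h2.exists_le_sylow
  exact BpGate.le_Hp Q (hQ (Subgroup.mem_zpowers _))

theorem coprime_pCore (hpr : p ≠ r) (H : Type*) [Group H] [Finite H] : (Nat.card (pCore p H)).Coprime r := by
  obtain ⟨k, hk⟩ := (IsPGroup.iff_card).1 (Lib.Cores.pCore_isPGroup (G := H) p)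
  rw [hk]
  exact Nat.Coprime.pow_left k ((Nat.coprime_primes hp.out hr.out).2 hpr)

/-- a perfect subgroup of `C_K(x)` inside the subgroup generated by the Sylow `r`-subgroups is trivial -/
theorem perfect_eq_bot_aux (hpr : p ≠ r) (hK : FixBN.HasSplit r K) {x : K} (hx : orderOf x = p)
    (hc : CP p ↥(centralizer ({x} : Set K))) {M : Subgroup ↥(centralizer ({x} : Set K))}
    (hM : ⁅M, M⁆ = M) (hle : M ≤ BpGate.Hp r ↥(centralizer ({x} : Set K))) : M = ⊥ := by
  obtain ⟨Pa, d, h1, h2, -⟩ := gates_aux hpr hK hx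
  have hn := Lib.Cores.pCore_normal (G := ↥(centralizer ({x} : Set K))) p
  have hP := Lib.Cores.pCore_isPGroup (G := ↥(centralizer ({x} : Set K))) p
  have h3 := BpGate.perfect_le_sup (X := pCore p ↥(centralizer ({x} : Set K))) h1 h2 (coprime_pCore hpr _) hM hle
  rw [sup_eq_left.2 hc] at h3
  have h4 : IsPGroup p M := hP.to_le h3
  have h5 : Group.IsNilpotent M := h4.isNilpotent
  exact eq_bot_of_perfect_of_isSolvable hM inferInstance

/-- **Tool (1)**: `K` with a split (B,N)-pair of characteristic `r ≠ p`, `x ∈ K` of order `p` with `C_K(x)` of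
characteristic `p`: every perfect subgroup `M` of `C_K(x)` generated by `r`-elements is trivial. -/
theorem perfect_eq_bot (hpr : p ≠ r) (hK : FixBN.HasSplit r K) {x : K} (hx : orderOf x = p)
    (hc : CP p ↥(centralizer ({x} : Set K))) {M : Subgroup K} (hMx : M ≤ centralizer ({x} : Set K))
    (hM : ⁅M, M⁆ = M) {s : Set K} (hs : M ≤ Subgroup.closure s) (hsM : s ⊆ M)
    (hsr : ∀ y ∈ s, ∃ k : ℕ, y ^ r ^ k = 1) : M = ⊥ := by
  have hinj := (centralizer ({x} : Set K)).subtype_injective
  have hM' : ⁅M.subgroupOf (centralizer ({x} : Set K)), M.subgroupOf (centralizer ({x} : Set K))⁆ =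
      M.subgroupOf (centralizer ({x} : Set K)) := by
    apply Subgroup.map_injective hinj
    rw [Subgroup.map_commutator, Subgroup.subgroupOf_map_subtype, inf_eq_left.2 hMx, hM]
  have h1 := perfect_eq_bot_aux hpr hK hx hc hM' (by
    rw [← Subgroup.map_le_map_iff_of_injective hinj, Subgroup.subgroupOf_map_subtype, inf_eq_left.2 hMx]
    refine hs.trans ((Subgroup.closure_le _).2 fun y hy => ?_)
    obtain ⟨k, hk⟩ := hsr y hy
    exact ⟨⟨y, hMx (hsM hy)⟩, mem_Hp (k := k) (Subtype.ext hk), rfl⟩)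
  have h2 := congrArg (Subgroup.map (centralizer ({x} : Set K)).subtype) h1
  rwa [Subgroup.subgroupOf_map_subtype, inf_eq_left.2 hMx, Subgroup.map_bot] at h2

/-- a finite group without nontrivial perfect subgroups is solvable -/
theorem isSolvable_of_perfect {H : Type*} [Group H] [Finite H]
    (h : ∀ M : Subgroup H, ⁅M, M⁆ = M → M = ⊥) : Group.IsSolvable H := by
  classical
  obtain ⟨n, hn⟩ : ∃ n, derivedSeries H (n + 1) = derivedSeries H n := by
    by_contra hne
    push Not at hne
    have h1 : ∀ n, Nat.card (derivedSeries H (n + 1)) < Nat.card (derivedSeries H n) := by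
      intro n
      exact Set.ncard_lt_ncard (s := (derivedSeries H (n + 1) : Set H)) (t := (derivedSeries H n : Set H))
        (lt_of_le_of_ne (derivedSeries_antitone H (Nat.le_succ n)) (fun h => hne n (SetLike.coe_injective h)))
        (Set.toFinite _)
    have h2 : ∀ n, Nat.card (derivedSeries H n) + n ≤ Nat.card (derivedSeries H 0) := by
      intro n
      induction n with
      | zero => simp
      | succ n ih => have := h1 n; omega
    have h3 := h2 (Nat.card (derivedSeries H 0) + 1)
    omega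
  exact ⟨⟨n, h _ (by rw [← derivedSeries_succ, hn])⟩⟩

/-- **In characteristic two** `C_K(x)` is solvable. -/
theorem isSolvable_of_two (FT : ∀ (X : Type u) [Group X] [Finite X], Odd (Nat.card X) → Group.IsSolvable X)
    (hp2 : p ≠ 2) (hK : FixBN.HasSplit 2 K) {x : K} (hx : orderOf x = p)
    (hc : CP p ↥(centralizer ({x} : Set K))) : Group.IsSolvable ↥(centralizer ({x} : Set K)) := by
  have : Fact (Nat.Prime 2) := ⟨Nat.prime_two⟩
  exact isSolvable_of_perfect fun M hM =>
    perfect_eq_bot_aux hp2 hK hx hc hM (BpTwo.le_Hp_two (fun {X} _ _ h => FT X h) hM)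

section Panel

open FixBN.Gates

variable {H : Type*} [Group H] [Finite H] {Pa : Set (Set (Sylow r H))} {d : Sylow r H → Sylow r H → ℕ}

/-- a self-centralising normal `p`-subgroup moves every panel -/
theorem panel_mv (hpr : p ≠ r) (hG : GSys Pa d) (hI : BpGate.Inter Pa) (hc : CP p H) {S : Set (Sylow r H)}
    (hS : S ∈ Pa) {f b b' : Sylow r H} (hf : f ∈ S) (hb : b ∈ S) (hb' : b' ∈ S) (h1 : b ≠ f) (h2 : b' ≠ f)
    (h3 : b ≠ b') : GSys.Mv (pCore p H) S := by
  have hn := Lib.Cores.pCore_normal (G := H) p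
  have hd : ∀ b : Sylow r H, Disjoint (pCore p H) (b : Subgroup H) :=
    BpGate.disjoint_of_coprime (coprime_pCore hpr H)
  by_contra hM
  obtain ⟨c, hc1, hcen⟩ := BpGate.exists_min hG hI hd f
  obtain ⟨u, hu, hu', hub⟩ := BpGate.key4 hG hd hS hM hf hc1 hb hb' h1 h2
  have h4 : u ∈ pCore p H := hc (Subgroup.mem_centralizer_iff.2 fun x hx => (hcen u hu hu' x hx).symm)
  have h5 := Subgroup.disjoint_def.1 (hd f) h4 hu
  rw [h5, one_smul] at hub
  exact h3 hub

/-- the order of a panel is a power of `p` -/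
theorem panel_card (hG : GSys Pa d) {S : Set (Sylow r H)} (hS : S ∈ Pa) {a : Sylow r H} (ha : a ∈ S)
    (hM : GSys.Mv (pCore p H) S) : ∃ k : ℕ, S.ncard = p ^ k := by
  have hn := Lib.Cores.pCore_normal (G := H) p
  have hP := Lib.Cores.pCore_isPGroup (G := H) p
  let X' : Subgroup H := pCore p H ⊓ MulAction.stabilizer H S
  have h1 : MulAction.orbit X' a = S := by
    ext b
    constructor
    · rintro ⟨⟨g, hg⟩, rfl⟩
      have h2 : g • S = S := hg.2
      change g • a ∈ S
      rw [← h2]
      exact Set.smul_mem_smul_set ha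
    · intro hb
      obtain ⟨c, hc, hcS, hcb⟩ := hM.tr hG hS ha hb
      exact ⟨⟨c, hc, hcS⟩, hcb⟩
  have h2 := MulAction.index_stabilizer X' a
  rw [h1] at h2
  have h3 : S.ncard ∣ Nat.card X' := by
    rw [← h2]
    exact Subgroup.index_dvd_card _
  have h4 : IsPGroup p X' := hP.to_le inf_le_left
  obtain ⟨k, hk⟩ := IsPGroup.iff_card.1 h4
  rw [hk] at h3
  obtain ⟨j, -, hj⟩ := (Nat.dvd_prime_pow hp.out).1 h3
  exact ⟨j, hj⟩

/-- the order of a panel minus one is a power of `r` -/
theorem panel_card_sub (hG : GSys Pa d) {S : Set (Sylow r H)} (hS : S ∈ Pa) {a b : Sylow r H} (ha : a ∈ S)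
    (hb : b ∈ S) (hne : b ≠ a) : ∃ k : ℕ, S.ncard = r ^ k + 1 := by
  have h1 : MulAction.orbit (a : Subgroup H) b = S \ {a} := by
    ext e
    constructor
    · rintro ⟨⟨g, hg⟩, rfl⟩
      have h2 : g • S = S := hG.self S hS a ha g hg
      refine ⟨?_, ?_⟩
      · change g • b ∈ S
        rw [← h2]
        exact Set.smul_mem_smul_set hb
      · intro h
        have h3 : g • b = a := h
        apply hne
        have h4 : g • b = g • a := by rw [h3, smul_self hg]
        exact smul_left_cancel g h4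
    · rintro ⟨he, hea⟩
      obtain ⟨u, hu, -, hub⟩ := (hG.gate_self hS ha).tr b hb e he hne hea
      exact ⟨⟨u, hu⟩, hub⟩
  have h2 := MulAction.index_stabilizer (a : Subgroup H) b
  rw [h1] at h2
  have h3 : (S \ {a}).ncard ∣ Nat.card (a : Subgroup H) := by
    rw [← h2]
    exact Subgroup.index_dvd_card _
  obtain ⟨k, hk⟩ := IsPGroup.iff_card.1 a.isPGroup'
  rw [hk] at h3
  obtain ⟨j, -, hj⟩ := (Nat.dvd_prime_pow hr.out).1 h3
  refine ⟨j, ?_⟩
  rw [← hj, Set.ncard_sdiff_singleton_add_one ha (Set.toFinite _)]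

end Panel

/-- **In odd characteristic** (`p` odd): the order of `C_K(x)` is prime to `r`. -/
theorem not_dvd_of_odd (hp2 : p ≠ 2) (hr2 : r ≠ 2) (hpr : p ≠ r) (hK : FixBN.HasSplit r K) {x : K}
    (hx : orderOf x = p) (hc : CP p ↥(centralizer ({x} : Set K))) :
    ¬ r ∣ Nat.card ↥(centralizer ({x} : Set K)) := by
  obtain ⟨Pa, d, hG, hI, a, b, hab⟩ := gates_aux hpr hK hx
  generalize hH : centralizer ({x} : Set K) = C at *
  have hn := Lib.Cores.pCore_normal (G := ↥C) p
  have hP := Lib.Cores.pCore_isPGroup (G := ↥C) p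
  have hd : ∀ b : Sylow r ↥C, Disjoint (pCore p ↥C) (b : Subgroup ↥C) :=
    BpGate.disjoint_of_coprime (coprime_pCore hpr ↥C)
  -- no panels
  have hno : ∀ S ∈ Pa, False := by
    intro S hS
    obtain ⟨e0, he0⟩ : S.Nonempty := by
      obtain ⟨c, hc, -⟩ := hG.gate S hS a
      exact ⟨c, hc⟩
    obtain ⟨e1, he1, h01, -⟩ := hG.three S hS e0 he0 e0 he0
    obtain ⟨e2, he2, h20, h21⟩ := hG.three S hS e0 he0 e1 he1
    have hM := panel_mv hpr hG hI hc hS he0 he1 he2 h01 h20 (Ne.symm h21)
    obtain ⟨k, hk⟩ := panel_card hG hS he0 hM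
    obtain ⟨j, hj⟩ := panel_card_sub hG hS he0 he1 h01
    have h1 : Odd (p ^ k) := (hp.out.odd_of_ne_two hp2).pow
    have h2 : Odd (r ^ j) := (hr.out.odd_of_ne_two hr2).pow
    rw [hk] at hj
    rw [hj] at h1
    exact (Nat.not_even_iff_odd.2 h1) h2.add_one
  by_cases hne : a = b
  · rw [← hne, inf_idem] at hab
    intro h
    have h1 := a.dvd_card_of_dvd_card h
    rw [hab, Subgroup.card_bot] at h1
    exact hr.out.one_lt.ne' (Nat.dvd_one.1 h1)
  · obtain ⟨S, hS, -⟩ := hG.desc a b hne
    exact (hno S hS).elim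

end Lie

end Cfsg.Agent.H238
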